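import Groth.Agent.EqThickLib.Tools
import Groth.Agent.Comodule.ChevalleyLocal
import Groth.Agent.Comodule.InvFinite
import Mathlib

/-!
# An equivariant integral normal thickening of a quasi-finite morphism
-/

set_option autoImplicit false
set_option backward.isDefEq.respectTransparency false
set_option backward.isDefEq.respectTransparency.types false

noncomputable section

universe u

open TensorProduct WithConv

namespace Groth.Agent.EqThick

open Groth.Agent.Comodule Groth.Agent.EqZMT Groth.Agent.EtInv

/-- A map which is quasi-finite modulo an ideal generated by elements from the base is quasi-finite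
at the primes containing that ideal. -/
theorem quasiFiniteAt_of_quotient {S' P R : Type u} [CommRing S'] [CommRing P] [CommRing R] [Algebra S' P]
    [Algebra.FiniteType S' P] [Algebra S' R] [Algebra.QuasiFinite S' R] (π : P →ₐ[S'] R)
    (hπ : Function.Surjective π) (E : Set S') (hE : RingHom.ker π = Ideal.span (algebraMap S' P '' E))
    (Q : Ideal P) [Q.IsPrime] (hQ : RingHom.ker π ≤ Q) : Algebra.QuasiFiniteAt S' Q := by
  let q := Q.under S'
  haveI : Q.LiesOver q := ⟨rfl⟩
  let π' : q.Fiber P →ₐ[q.ResidueField] q.Fiber R := Algebra.TensorProduct.map (AlgHom.id _ _) π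
  have hker : ∀ c ∈ RingHom.ker π, (1 : q.ResidueField) ⊗ₜ[S'] c = (0 : q.Fiber P) := by
    intro c hc
    rw [hE] at hc
    induction hc using Submodule.span_induction with
    | mem c hc =>
      obtain ⟨e, he, rfl⟩ := hc
      have heq : e ∈ q := hQ (hE ▸ Ideal.subset_span ⟨e, he, rfl⟩)
      rw [Algebra.algebraMap_eq_smul_one, ← TensorProduct.smul_tmul, ← Algebra.algebraMap_eq_smul_one,
        Ideal.algebraMap_residueField_eq_zero.2 heq, TensorProduct.zero_tmul]
    | zero => exact TensorProduct.tmul_zero _ _
    | add a b _ _ ha hb => rw [TensorProduct.tmul_add, ha, hb, add_zero]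
    | smul a b _ hb =>
      rw [smul_eq_mul, show (1 : q.ResidueField) ⊗ₜ[S'] (a * b) =
        ((1 : q.ResidueField) ⊗ₜ[S'] a) * ((1 : q.ResidueField) ⊗ₜ[S'] b) by
          rw [Algebra.TensorProduct.tmul_mul_tmul, one_mul], hb, mul_zero]
  have hinj : Function.Injective π' := by
    have hex : Function.Exact ((LinearMap.ker π.toLinearMap).subtype) π.toLinearMap :=
      LinearMap.exact_subtype_ker_map π.toLinearMap
    have h := lTensor_exact q.ResidueField hex hπ
    have h0 : ∀ z : q.ResidueField ⊗[S'] P, π.toLinearMap.lTensor q.ResidueField z = π' z := by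
      intro z
      induction z with
      | zero => simp
      | add a b ha hb => simp only [map_add, ha, hb]
      | tmul a b => simp [π']
    refine (injective_iff_map_eq_zero _).2 fun z hz => ?_
    obtain ⟨w, rfl⟩ := (h z).1 ((h0 z).trans hz)
    induction w with
    | zero => simp
    | add a b ha hb =>
      have h1 : ∀ w, π' ((LinearMap.ker π.toLinearMap).subtype.lTensor q.ResidueField w) = 0 := by
        intro w
        induction w with
        | zero => simp
        | add c d hc hd => simp only [map_add, hc, hd, add_zero]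
        | tmul c d =>
          simp only [LinearMap.lTensor_tmul, Submodule.subtype_apply, π', Algebra.TensorProduct.map_tmul]
          rw [show π (d : P) = 0 from d.2, TensorProduct.tmul_zero]
      rw [map_add, ha (h1 a), hb (h1 b), add_zero]
    | tmul a d =>
      rw [LinearMap.lTensor_tmul, Submodule.subtype_apply,
        show a ⊗ₜ[S'] (d : P) = (a ⊗ₜ[S'] (1 : P)) * ((1 : q.ResidueField) ⊗ₜ[S'] (d : P)) by
          rw [Algebra.TensorProduct.tmul_mul_tmul, mul_one, one_mul], hker _ d.2, mul_zero]
  haveI : Module.Finite q.ResidueField (q.Fiber R) := inferInstance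
  haveI : Module.Finite q.ResidueField (q.Fiber P) :=
    Module.Finite.of_injective π'.toLinearMap hinj
  let Q' : Ideal (q.Fiber P) := (PrimeSpectrum.primesOverOrderIsoFiber S' P q ⟨Q, ‹_›, ‹_›⟩).asIdeal
  have hQ' : Q'.comap Algebra.TensorProduct.includeRight.toRingHom = Q :=
    congr($((PrimeSpectrum.primesOverOrderIsoFiber S' P q).symm_apply_apply ⟨Q, ‹_›, ‹_›⟩).1)
  haveI : Algebra.QuasiFiniteAt q.ResidueField Q' := inferInstance
  exact Algebra.QuasiFiniteAt.of_quasiFiniteAt_residueField q Q Q' hQ'

variable {k : Type u} [Field k] [IsAlgClosed k] [CharZero k] {A : Type u} [CommRing A] [HopfAlgebra k A]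
  [Algebra.FiniteType k A]
variable {S : Type u} [CommRing S] [Algebra k S] [Algebra.FiniteType k S] [HopfRep.Comod k A S]
  [GLin.IsCoactAlg k A S]
variable {R : Type u} [CommRing R] [Algebra k R] [Algebra.FiniteType k R] [HopfRep.Comod k A R]
  [GLin.IsCoactAlg k A R]
variable [Algebra S R] [IsScalarTower k S R]

set_option maxHeartbeats 8000000 in
/-- The thickening attached to a stable polynomial-type cover. -/
theorem exists_thickening_of_cover [Nontrivial R] [Algebra.QuasiFinite S R] (hA : HopfRep.IsLinearlyReductive k A)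
    (hinj : Function.Injective (algebraMap S R))
    (hequiv : ∀ s : S, HopfRep.Comod.coact (k := k) (A := A) (algebraMap S R s) =
      Algebra.TensorProduct.map (IsScalarTower.toAlgHom k S R) (AlgHom.id k A) (HopfRep.Comod.coact (k := k) (A := A) s))
    {P : Type u} [CommRing P] [IsDomain P] [IsIntegrallyClosed P] [Algebra k P] [Algebra.FiniteType k P]
    [HopfRep.Comod k A P] [GLin.IsCoactAlg k A P] (π : P →ₐ[k] R) (hπs : Function.Surjective π)
    (hπeq : ∀ p : P, HopfRep.Comod.coact (k := k) (A := A) (π p) =
      Algebra.TensorProduct.map π (AlgHom.id k A) (HopfRep.Comod.coact (k := k) (A := A) p))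
    (hI₀ : Stable (k := k) A (RingHom.ker π)) (S' : Subalgebra k P) [Algebra.FiniteType k S']
    (hS'sub : HopfRep.IsSubcomod (k := k) (A := A) (Subalgebra.toSubmodule S'))
    (hS'S : ∀ a : S', ∃ s : S, algebraMap S R s = π a) (hgen : ∀ s : S, ∃ a : S', π a = algebraMap S R s)
    (E : Set P) (hES : E ⊆ S') (hEspan : Ideal.span E = RingHom.ker π) :
    ∃ (R' : Type u) (_ : CommRing R') (_ : IsDomain R') (_ : IsIntegrallyClosed R') (_ : Algebra k R')
      (_ : HopfRep.Comod k A R') (_ : GLin.IsCoactAlg k A R')
      (S' : Type u) (_ : CommRing S') (_ : IsDomain S') (_ : Algebra k S')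
      (_ : HopfRep.Comod k A S') (_ : GLin.IsCoactAlg k A S'),
      Algebra.FiniteType k R' ∧ Algebra.FiniteType k S' ∧
      ∃ (pR : R' →ₐ[k] R) (pS : S' →ₐ[k] S) (φ' : S' →ₐ[k] R'),
        Function.Surjective pR ∧ Function.Surjective pS ∧ Function.Injective φ' ∧ φ'.toRingHom.QuasiFinite ∧
        (∀ s : R', HopfRep.Comod.coact (k := k) (A := A) (pR s) =
        Algebra.TensorProduct.map pR (AlgHom.id k A) (HopfRep.Comod.coact (k := k) (A := A) s)) ∧
        (∀ s : S', HopfRep.Comod.coact (k := k) (A := A) (pS s) =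
        Algebra.TensorProduct.map pS (AlgHom.id k A) (HopfRep.Comod.coact (k := k) (A := A) s)) ∧
        (∀ s : S', HopfRep.Comod.coact (k := k) (A := A) (φ' s) =
        Algebra.TensorProduct.map φ' (AlgHom.id k A) (HopfRep.Comod.coact (k := k) (A := A) s)) ∧
        pR.comp φ' = (IsScalarTower.toAlgHom k S R).comp pS := by
  classical
  haveI : IsNoetherianRing P := Algebra.FiniteType.isNoetherianRing k P
  letI cS' : HopfRep.Comod k A S' := subComod (Subalgebra.toSubmodule S') hS'sub
  have hcoS' : ∀ a : S', Algebra.TensorProduct.map S'.val (AlgHom.id k A) (HopfRep.Comod.coact (k := k) (A := A) a) =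
      HopfRep.Comod.coact (k := k) (A := A) (a : P) := fun a =>
    (map_val_id_apply k A S' _).trans (rTensor_subCoact (Subalgebra.toSubmodule S') hS'sub a)
  haveI hcoalgS' : GLin.IsCoactAlg k A S' :=
    { coact_one := map_val_id_injective k A S' (by
        rw [hcoS', map_one]; exact GLin.IsCoactAlg.coact_one (k := k) (A := A) (R := P))
      coact_mul := fun f g => map_val_id_injective k A S' (by
        rw [hcoS', map_mul, hcoS', hcoS']; exact GLin.IsCoactAlg.coact_mul (k := k) (A := A) (f : P) g) }
  choose σ hσ using hS'S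
  let pS : S' →ₐ[k] S :=
    { toFun := σ
      map_one' := hinj (by rw [hσ, map_one]; exact map_one π)
      map_mul' := fun a c => hinj (by rw [hσ, map_mul, hσ, hσ, ← map_mul π]; rfl)
      map_zero' := hinj (by rw [hσ, map_zero]; exact map_zero π)
      map_add' := fun a c => hinj (by rw [hσ, map_add, hσ, hσ, ← map_add π]; rfl)
      commutes' := fun c => hinj (by
        rw [hσ, ← IsScalarTower.algebraMap_apply k S R]; exact π.commutes c) }
  have hpS : ∀ a : S', algebraMap S R (pS a) = π a := hσ
  have hpSs : Function.Surjective pS := fun s => by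
    obtain ⟨a, ha⟩ := hgen s
    exact ⟨a, hinj ((hpS a).trans ha)⟩
  letI algS'R : Algebra S' R := ((algebraMap S R).comp pS.toRingHom).toAlgebra
  letI algS'S : Algebra S' S := pS.toRingHom.toAlgebra
  haveI : IsScalarTower S' S R := IsScalarTower.of_algebraMap_eq fun a => rfl
  haveI : Module.Finite S' S := Module.Finite.of_surjective (Algebra.linearMap S' S) hpSs
  haveI : Algebra.QuasiFinite S' R := Algebra.QuasiFinite.trans (R := S') (S := S) (T := R)
  haveI : Algebra.FiniteType S' P := Algebra.FiniteType.of_restrictScalars_finiteType k S' P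
  let πS : P →ₐ[S'] R := { toRingHom := π.toRingHom, commutes' := fun a => (hpS a).symm }
  have hE' : RingHom.ker πS = Ideal.span (algebraMap S' P '' {e : S' | (e : P) ∈ E}) := by
    show RingHom.ker π = _
    rw [← hEspan]
    refine congrArg Ideal.span (Set.ext fun a => ⟨fun ha => ⟨⟨a, hES ha⟩, ha, rfl⟩, ?_⟩)
    rintro ⟨e, he, rfl⟩
    exact he
  -- the conductor
  let D : Set P := {d | IsIntegral S' d ∧ ∀ c : P, ∃ n, IsIntegral S' (d ^ n * c)}
  have hint : ∀ (g : A →ₐ[k] k) (d : P), IsIntegral S' d → IsIntegral S' (transl k A g d) := by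
    intro g d hd
    refine IsIntegral.map_of_comp_eq (transl k A g : S' →ₐ[k] S').toRingHom (transl k A g).toRingHom ?_ hd
    exact RingHom.ext fun a => (map_transl S'.val (fun a => (hcoS' a).symm) g a).symm
  have hDst : Stable (k := k) A (Ideal.span D) := Stable.span fun g d hd => Ideal.subset_span ⟨hint g d hd.1, fun c => by
    obtain ⟨n, hn⟩ := hd.2 (transl k A (inv g) c)
    refine ⟨n, ?_⟩
    rw [← transl_transl_inv g c, ← map_pow, ← map_mul]
    exact hint g _ hn⟩
  have htop : Ideal.span D ⊔ RingHom.ker π = ⊤ := by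
    by_contra hne
    obtain ⟨Q, hQ, hle⟩ := Ideal.exists_le_maximal _ hne
    haveI := quasiFiniteAt_of_quotient πS hπs _ hE' Q (le_sup_right.trans hle)
    obtain ⟨r, hr, h1, h2⟩ :=
      Algebra.zariskisMainProperty_iff.mp (Algebra.ZariskisMainProperty.of_finiteType (R := S') Q)
    exact hr (hle (Ideal.mem_sup_left (Ideal.subset_span ⟨h1, h2⟩)))
  obtain ⟨f, hfi, hfD, hf1⟩ := exists_invariant_of_sup_eq_top hA hDst hI₀ htop
  have hπf : π f = 1 := by
    rw [RingHom.mem_ker, map_sub, map_one, sub_eq_zero] at hf1
    exact hf1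
  have hf0 : f ≠ 0 := fun h => one_ne_zero (α := R) (by rw [← hπf, h, map_zero])
  have hQF := quasiFinite_away f (T := Localization.Away f) D (fun d hd => hd) hfD
  let R' := Localization.Away f
  have hQF' : ((algebraMap P R').comp S'.val.toRingHom).QuasiFinite := by
    have e := RingHom.quasiFinite_algebraMap.2 hQF
    exact e
  haveI : IsDomain R' := IsLocalization.isDomain_of_le_nonZeroDivisors R'
    (Submonoid.powers_le.2 (mem_nonZeroDivisors_of_ne_zero hf0))
  haveI : IsIntegrallyClosed R' := isIntegrallyClosed_of_isLocalization (R := P) R' (Submonoid.powers f)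
    (Submonoid.powers_le.2 (mem_nonZeroDivisors_of_ne_zero hf0))
  letI cR' : HopfRep.Comod k A R' := locComod f hfi
  haveI hcR' : GLin.IsCoactAlg k A R' := isCoactAlg_loc f hfi
  haveI : Algebra.FiniteType P R' := IsLocalization.finiteType_of_monoid_fg (Submonoid.powers f) R'
  haveI : Algebra.FiniteType k R' := Algebra.FiniteType.trans (S := P) inferInstance inferInstance
  let pR : R' →ₐ[k] R := IsLocalization.liftAlgHom (M := Submonoid.powers f) (S := R') (f := π)
    (by rintro ⟨_, n, rfl⟩; rw [map_pow, hπf, one_pow]; exact isUnit_one)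
  have hpR : ∀ p, pR (algebraMap P R' p) = π p := fun p => IsLocalization.lift_eq _ p
  let φ' : S' →ₐ[k] R' := (IsScalarTower.toAlgHom k P R').comp S'.val
  refine ⟨R', inferInstance, inferInstance, inferInstance, inferInstance, cR', hcR', S', inferInstance, inferInstance,
    inferInstance, cS', hcoalgS', inferInstance, inferInstance, pR, pS, φ',
    fun a => ⟨algebraMap P R' (hπs a).choose, by rw [hpR]; exact (hπs a).choose_spec⟩, hpSs,
    (IsLocalization.injective R' (Submonoid.powers_le.2 (mem_nonZeroDivisors_of_ne_zero hf0))).comp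
      Subtype.val_injective, hQF', fun z => ?_, fun a => ?_, fun a => ?_, AlgHom.ext fun a => ?_⟩
  · have h : (GLin.coactAlgHom k A R).comp pR =
        (Algebra.TensorProduct.map pR (AlgHom.id k A)).comp (GLin.coactAlgHom k A R') := by
      refine IsLocalization.algHom_ext (Submonoid.powers f) (AlgHom.ext fun p => ?_)
      show HopfRep.Comod.coact (k := k) (A := A) (pR (algebraMap P R' p)) =
        Algebra.TensorProduct.map pR (AlgHom.id k A) (locCoact f hfi (algebraMap P R' p))
      rw [hpR, hπeq, locCoact_algebraMap, ← AlgHom.comp_apply, ← Algebra.TensorProduct.map_comp, AlgHom.comp_id]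
      congr 2
      exact AlgHom.ext fun q => (hpR q).symm
    exact DFunLike.congr_fun h z
  · have hi : Function.Injective (LinearMap.rTensor A (IsScalarTower.toAlgHom k S R).toLinearMap) :=
      Module.Flat.rTensor_preserves_injective_linearMap _ hinj
    have e : ∀ w : S ⊗[k] A, LinearMap.rTensor A (IsScalarTower.toAlgHom k S R).toLinearMap w =
        Algebra.TensorProduct.map (IsScalarTower.toAlgHom k S R) (AlgHom.id k A) w := by
      intro w
      induction w with
      | zero => simp
      | add p q hp hq => simp only [map_add, hp, hq]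
      | tmul p q => simp
    refine hi ?_
    rw [e, e, ← hequiv, hpS, hπeq, ← hcoS', ← AlgHom.comp_apply, ← AlgHom.comp_apply,
      ← Algebra.TensorProduct.map_comp, ← Algebra.TensorProduct.map_comp]
    congr 2
    exact AlgHom.ext fun c => (hpS c).symm
  · show locCoact f hfi (algebraMap P R' (a : P)) = _
    rw [locCoact_algebraMap, ← hcoS', ← AlgHom.comp_apply, ← Algebra.TensorProduct.map_comp, AlgHom.comp_id]
  · show pR (algebraMap P R' (a : P)) = algebraMap S R (pS a)
    rw [hpR, hpS]


set_option maxHeartbeats 8000000 in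
set_option synthInstance.maxHeartbeats 1000000 in
/-- The thickening. -/
theorem exists_thickening [Nontrivial R] [Algebra.QuasiFinite S R] (hA : HopfRep.IsLinearlyReductive k A)
    (hinj : Function.Injective (algebraMap S R)) (hequiv : ∀ s : S, HopfRep.Comod.coact (k := k) (A := A) (algebraMap S R s) =
      Algebra.TensorProduct.map (IsScalarTower.toAlgHom k S R) (AlgHom.id k A) (HopfRep.Comod.coact (k := k) (A := A) s)) :
    ∃ (R' : Type u) (_ : CommRing R') (_ : IsDomain R') (_ : IsIntegrallyClosed R') (_ : Algebra k R')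
      (_ : HopfRep.Comod k A R') (_ : GLin.IsCoactAlg k A R')
      (S' : Type u) (_ : CommRing S') (_ : IsDomain S') (_ : Algebra k S')
      (_ : HopfRep.Comod k A S') (_ : GLin.IsCoactAlg k A S'),
      Algebra.FiniteType k R' ∧ Algebra.FiniteType k S' ∧
      ∃ (pR : R' →ₐ[k] R) (pS : S' →ₐ[k] S) (φ' : S' →ₐ[k] R'),
        Function.Surjective pR ∧ Function.Surjective pS ∧ Function.Injective φ' ∧ φ'.toRingHom.QuasiFinite ∧
        (∀ s : R', HopfRep.Comod.coact (k := k) (A := A) (pR s) =
        Algebra.TensorProduct.map pR (AlgHom.id k A) (HopfRep.Comod.coact (k := k) (A := A) s)) ∧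
        (∀ s : S', HopfRep.Comod.coact (k := k) (A := A) (pS s) =
        Algebra.TensorProduct.map pS (AlgHom.id k A) (HopfRep.Comod.coact (k := k) (A := A) s)) ∧
        (∀ s : S', HopfRep.Comod.coact (k := k) (A := A) (φ' s) =
        Algebra.TensorProduct.map φ' (AlgHom.id k A) (HopfRep.Comod.coact (k := k) (A := A) s)) ∧
        pR.comp φ' = (IsScalarTower.toAlgHom k S R).comp pS := by
  classical
  obtain ⟨TR, hTR⟩ := Algebra.FiniteType.out (R := k) (A := R)
  obtain ⟨TS, hTS⟩ := Algebra.FiniteType.out (R := k) (A := S)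
  let gS : Set R := algebraMap S R '' (TS : Set S)
  let W₁ : Submodule k R := (Submodule.span (WithConv (A →ₗ[k] k)) gS).restrictScalars k
  let U : Submodule k R := (Submodule.span (WithConv (A →ₗ[k] k)) ((TR : Set R) ∪ gS)).restrictScalars k
  haveI : Module.Finite k U := finite_span_of_finite (TR.finite_toSet.union (TS.finite_toSet.image _))
  have hU : HopfRep.IsSubcomod (k := k) (A := A) U := isSubcomod_restrictScalars _
  have hW₁U : W₁ ≤ U := fun a ha => Submodule.span_mono Set.subset_union_right ha
  have hrng : HopfRep.IsSubcomod (k := k) (A := A)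
      (LinearMap.range (IsScalarTower.toAlgHom k S R).toLinearMap) := by
    refine isSubcomod_of_transl k A _ fun g a ha => ?_
    obtain ⟨s, rfl⟩ := ha
    exact ⟨transl k A g s, (map_transl (IsScalarTower.toAlgHom k S R) hequiv g s).symm⟩
  have hW₁S : ∀ a ∈ W₁, ∃ s : S, algebraMap S R s = a := fun a ha =>
    (Submodule.span_le.2 (by rintro _ ⟨s, -, rfl⟩; exact ⟨s, rfl⟩) :
      Submodule.span (WithConv (A →ₗ[k] k)) gS ≤ toDual _ hrng) ha
  letI cU : HopfRep.Comod k A U := subComod U hU
  let b := Module.Free.chooseBasis k U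
  letI cP : HopfRep.Comod k A (MvPolynomial (Module.Free.ChooseBasisIndex k U) k) := ChevalleyLocal.symComod b
  haveI hcP : GLin.IsCoactAlg k A (MvPolynomial (Module.Free.ChooseBasisIndex k U) k) :=
    ChevalleyLocal.isCoactAlg_sym b
  let P := MvPolynomial (Module.Free.ChooseBasisIndex k U) k
  haveI hPd : IsDomain P := inferInstance
  haveI hPn : IsIntegrallyClosed P := UniqueFactorizationMonoid.instIsIntegrallyClosed
  let π : P →ₐ[k] R := MvPolynomial.aeval fun i => (b i : R)
  have hπlin : ∀ u : U, π (ChevalleyLocal.linEmb b u) = (u : R) := by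
    intro u
    have : π.toLinearMap ∘ₗ ChevalleyLocal.linEmb b = U.subtype := b.ext fun i => by
      show π (ChevalleyLocal.linEmb b (b i)) = (b i : R)
      rw [ChevalleyLocal.linEmb_basis]
      exact MvPolynomial.aeval_X _ i
    exact LinearMap.congr_fun this u
  have hlinco : ∀ u : U, HopfRep.Comod.coact (k := k) (A := A) (ChevalleyLocal.linEmb b u : P) =
      (ChevalleyLocal.linEmb b).rTensor A (HopfRep.Comod.coact (k := k) (A := A) u) :=
    fun u => ChevalleyLocal.symCoact_linEmb b u
  have hπeq : ∀ p : P, HopfRep.Comod.coact (k := k) (A := A) (π p) =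
      Algebra.TensorProduct.map π (AlgHom.id k A) (HopfRep.Comod.coact (k := k) (A := A) p) := by
    have h : (GLin.coactAlgHom k A R).comp π =
        (Algebra.TensorProduct.map π (AlgHom.id k A)).comp (GLin.coactAlgHom k A P) := by
      refine MvPolynomial.algHom_ext fun i => ?_
      show HopfRep.Comod.coact (k := k) (A := A) (π (MvPolynomial.X i)) =
        Algebra.TensorProduct.map π (AlgHom.id k A) (HopfRep.Comod.coact (k := k) (A := A) (MvPolynomial.X i : P))
      rw [← ChevalleyLocal.linEmb_basis b i, hπlin, hlinco, ← rTensor_subCoact U hU (b i)]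
      change U.subtype.rTensor A (HopfRep.Comod.coact (k := k) (A := A) (b i)) = _
      induction HopfRep.Comod.coact (k := k) (A := A) (b i) with
      | zero => simp
      | add p q hp hq => simp only [map_add, hp, hq]
      | tmul p q => simp [hπlin]
    exact fun p => DFunLike.congr_fun h p
  have hπs : Function.Surjective π := by
    have : (⊤ : Subalgebra k R) ≤ π.range := by
      rw [← hTR, Algebra.adjoin_le_iff]
      intro a ha
      exact ⟨_, hπlin ⟨a, Submodule.subset_span (Or.inl ha)⟩⟩
    exact fun a => this Algebra.mem_top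
  haveI : IsNoetherianRing P := MvPolynomial.isNoetherianRing
  have hI₀ : Stable (k := k) A (RingHom.ker π) := fun g p hp => by
    rw [RingHom.mem_ker, ← map_transl π hπeq g p, RingHom.mem_ker.1 hp, map_zero]
  obtain ⟨E, hEfin, hEsub, hEle, hEspan⟩ := InvFinite.exists_subcomod_span_eq (RingHom.ker π) hI₀.isSubcomod
  let W : Submodule k P := (W₁.comap U.subtype).map (ChevalleyLocal.linEmb b)
  let G : Set P := (W : Set P) ∪ (E : Set P)
  have hlintr : ∀ (g : A →ₐ[k] k) (u : U), transl k A g (ChevalleyLocal.linEmb b u : P) =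
      ChevalleyLocal.linEmb b (dact g.toLinearMap u) := by
    intro g u
    rw [transl_apply, hlinco, dact, LinearMap.comp_apply, rcon_rTensor]
  have hGst : ∀ (g : A →ₐ[k] k), ∀ p ∈ G, transl k A g p ∈ Algebra.adjoin k G := by
    intro g p hp
    refine Algebra.subset_adjoin ?_
    rcases hp with ⟨u, hu, rfl⟩ | hp
    · refine Or.inl ⟨dact g.toLinearMap u, ?_, (hlintr g u).symm⟩
      show ((dact g.toLinearMap u : U) : R) ∈ W₁
      have e : ((dact g.toLinearMap u : U) : R) = dact g.toLinearMap (u : R) := by
        simp only [dact, LinearMap.comp_apply]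
        rw [← rTensor_subCoact U hU u, rcon_rTensor]
        rfl
      rw [e]
      exact isSubcomod_iff.1 (isSubcomod_restrictScalars _) (toConv g.toLinearMap) _ hu
    · refine Or.inr ?_
      rw [transl_apply]
      exact isSubcomod_iff.1 hEsub (toConv g.toLinearMap) _ hp
  let S' : Subalgebra k P := Algebra.adjoin k G
  have hS'sub : HopfRep.IsSubcomod (k := k) (A := A) (Subalgebra.toSubmodule S') := isSubcomod_adjoin G hGst
  haveI : Algebra.FiniteType k S' := by
    obtain ⟨t₁, ht₁⟩ := (Module.Finite.iff_fg.1 (inferInstance : Module.Finite k W) : W.FG)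
    obtain ⟨t₂, ht₂⟩ := (Module.Finite.iff_fg.1 hEfin : E.FG)
    refine (Subalgebra.fg_iff_finiteType S').1 ⟨t₁ ∪ t₂, le_antisymm (Algebra.adjoin_le ?_) (Algebra.adjoin_le ?_)⟩
    · intro a ha
      rcases Finset.mem_union.1 ha with h | h
      · exact Algebra.subset_adjoin (Or.inl (ht₁ ▸ Submodule.subset_span h))
      · exact Algebra.subset_adjoin (Or.inr (ht₂ ▸ Submodule.subset_span h))
    · have hsp : ∀ t : Finset P, t ⊆ t₁ ∪ t₂ → Submodule.span k (t : Set P) ≤
          Subalgebra.toSubmodule (Algebra.adjoin k ((t₁ ∪ t₂ : Finset P) : Set P)) :=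
        fun t ht => Submodule.span_le.2 fun c hc => Algebra.subset_adjoin (ht hc)
      rintro a (ha | ha)
      · exact hsp t₁ Finset.subset_union_left (ht₁.symm ▸ ha)
      · exact hsp t₂ Finset.subset_union_right (ht₂.symm ▸ ha)
  -- the map to `S`
  have hS'S : ∀ a : S', ∃ s : S, algebraMap S R s = π a := by
    suffices h : S' ≤ (IsScalarTower.toAlgHom k S R).range.comap π from fun a => h a.2
    refine Algebra.adjoin_le ?_
    rintro _ (⟨u, hu, rfl⟩ | ha)
    · show π _ ∈ (IsScalarTower.toAlgHom k S R).range
      rw [hπlin]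
      exact hW₁S _ hu
    · show π _ ∈ (IsScalarTower.toAlgHom k S R).range
      rw [RingHom.mem_ker.1 (hEle ha)]
      exact zero_mem _
  have hgen : ∀ s : S, ∃ a : S', π a = algebraMap S R s := by
    have h : (⊤ : Subalgebra k S) ≤ (S'.map π).comap (IsScalarTower.toAlgHom k S R) := by
      rw [← hTS, Algebra.adjoin_le_iff]
      intro s hs
      have hW1 : algebraMap S R s ∈ W₁ := Submodule.subset_span ⟨s, hs, rfl⟩
      let u : U := ⟨algebraMap S R s, hW₁U hW1⟩
      exact ⟨ChevalleyLocal.linEmb b u, Algebra.subset_adjoin (Or.inl ⟨u, hW1, rfl⟩), hπlin u⟩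
    intro s
    obtain ⟨a, ha, e⟩ := h (Algebra.mem_top (x := s))
    exact ⟨⟨a, ha⟩, e⟩
  exact exists_thickening_of_cover hA hinj hequiv π hπs hπeq hI₀ S' hS'sub hS'S hgen (E : Set P)
    (fun a ha => Algebra.subset_adjoin (Or.inr ha)) hEspan

end Groth.Agent.EqThick

namespace Groth.Agent.EqThick

open Groth.Agent.Comodule Groth.Agent.EqZMT Groth.Agent.EtInv

/-- The thickening in the degenerate case. -/
theorem exists_thickening_subsingleton {k : Type u} [Field k] {A : Type u} [CommRing A] [HopfAlgebra k A]
    {S : Type u} [CommRing S] [Algebra k S] [HopfRep.Comod k A S] [GLin.IsCoactAlg k A S]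
    {R : Type u} [CommRing R] [Algebra k R] [HopfRep.Comod k A R] [GLin.IsCoactAlg k A R]
    [Algebra S R] [IsScalarTower k S R] [Subsingleton R] (hinj : Function.Injective (algebraMap S R)) :
    ∃ (R' : Type u) (_ : CommRing R') (_ : IsDomain R') (_ : IsIntegrallyClosed R') (_ : Algebra k R')
      (_ : HopfRep.Comod k A R') (_ : GLin.IsCoactAlg k A R')
      (S' : Type u) (_ : CommRing S') (_ : IsDomain S') (_ : Algebra k S')
      (_ : HopfRep.Comod k A S') (_ : GLin.IsCoactAlg k A S'),
      Algebra.FiniteType k R' ∧ Algebra.FiniteType k S' ∧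
      ∃ (pR : R' →ₐ[k] R) (pS : S' →ₐ[k] S) (φ' : S' →ₐ[k] R'),
        Function.Surjective pR ∧ Function.Surjective pS ∧ Function.Injective φ' ∧ φ'.toRingHom.QuasiFinite ∧
        (∀ s : R', HopfRep.Comod.coact (k := k) (A := A) (pR s) =
        Algebra.TensorProduct.map pR (AlgHom.id k A) (HopfRep.Comod.coact (k := k) (A := A) s)) ∧
        (∀ s : S', HopfRep.Comod.coact (k := k) (A := A) (pS s) =
        Algebra.TensorProduct.map pS (AlgHom.id k A) (HopfRep.Comod.coact (k := k) (A := A) s)) ∧
        (∀ s : S', HopfRep.Comod.coact (k := k) (A := A) (φ' s) =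
        Algebra.TensorProduct.map φ' (AlgHom.id k A) (HopfRep.Comod.coact (k := k) (A := A) s)) ∧
        pR.comp φ' = (IsScalarTower.toAlgHom k S R).comp pS := by
  haveI : Subsingleton S := hinj.subsingleton
  letI := HopfRep.Comod.trivial k A k
  haveI : GLin.IsCoactAlg k A k :=
    { coact_one := rfl
      coact_mul := fun a b => by
        show (a * b) ⊗ₜ[k] (1 : A) = (a ⊗ₜ[k] (1 : A)) * (b ⊗ₜ[k] (1 : A))
        rw [Algebra.TensorProduct.tmul_mul_tmul, one_mul] }
  haveI : Subsingleton (R ⊗[k] A) := subsingleton_of_forall_eq 0 fun z => by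
    induction z with
    | zero => rfl
    | add a b ha hb => rw [ha, hb, add_zero]
    | tmul a b => rw [Subsingleton.elim a 0, TensorProduct.zero_tmul]
  haveI : Subsingleton (S ⊗[k] A) := subsingleton_of_forall_eq 0 fun z => by
    induction z with
    | zero => rfl
    | add a b ha hb => rw [ha, hb, add_zero]
    | tmul a b => rw [Subsingleton.elim a 0, TensorProduct.zero_tmul]
  refine ⟨k, inferInstance, inferInstance, inferInstance, inferInstance, inferInstance, inferInstance,
    k, inferInstance, inferInstance, inferInstance, inferInstance, inferInstance, inferInstance, inferInstance,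
    Algebra.ofId k R, Algebra.ofId k S, AlgHom.id k k, fun r => ⟨0, Subsingleton.elim _ _⟩,
    fun r => ⟨0, Subsingleton.elim _ _⟩, Function.injective_id, ?_, fun _ => Subsingleton.elim _ _,
    fun _ => Subsingleton.elim _ _, fun c => ?_, AlgHom.ext fun _ => Subsingleton.elim _ _⟩
  · exact RingHom.quasiFinite_algebraMap.2 (inferInstance : Algebra.QuasiFinite k k)
  · simp

end Groth.Agent.EqThick
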