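import Groth.Agent.EtInvLib.Orbit
import Mathlib

/-!
# Tools: coactions on localisations and sub-algebras, quasi-finiteness away from a conductor
-/

set_option autoImplicit false
set_option backward.isDefEq.respectTransparency false
set_option backward.isDefEq.respectTransparency.types false

noncomputable section

universe u

open TensorProduct WithConv

namespace Groth.Agent.EqThick

open Groth.Agent.Comodule Groth.Agent.EqZMT Groth.Agent.EtInv

variable {k : Type u} [Field k] {A : Type u} [CommRing A] [HopfAlgebra k A]
variable {P : Type u} [CommRing P] [Algebra k P] [HopfRep.Comod k A P] [GLin.IsCoactAlg k A P]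

/-- Equivariant maps commute with translations. -/
theorem map_transl {T : Type u} [CommRing T] [Algebra k T] [HopfRep.Comod k A T] [GLin.IsCoactAlg k A T]
    (φ : P →ₐ[k] T) (hφ : ∀ p : P, HopfRep.Comod.coact (k := k) (A := A) (φ p) =
      Algebra.TensorProduct.map φ (AlgHom.id k A) (HopfRep.Comod.coact (k := k) (A := A) p))
    (g : A →ₐ[k] k) (p : P) : transl k A g (φ p) = φ (transl k A g p) := by
  rw [transl_apply, transl_apply, hφ]
  induction HopfRep.Comod.coact (k := k) (A := A) p with
  | zero => simp
  | add y z hy hz => simp only [map_add, hy, hz]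
  | tmul a b => simp [rcon]

section Loc

variable (f : P) (hf : f ∈ GLin.invariants k A P)

include hf in
theorem isUnit_coact :
    IsUnit (((Algebra.TensorProduct.map (IsScalarTower.toAlgHom k P (Localization.Away f)) (AlgHom.id k A)).comp
      (GLin.coactAlgHom k A P)) f) := by
  rw [AlgHom.comp_apply, GLin.coactAlgHom_apply, (GLin.mem_invariants_iff k A P f).1 hf,
    Algebra.TensorProduct.map_tmul]
  exact (IsLocalization.Away.algebraMap_isUnit f).map
    (Algebra.TensorProduct.includeLeft : Localization.Away f →ₐ[k] Localization.Away f ⊗[k] A)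

/-- The coaction on a localisation at an invariant element. -/
def locCoact : Localization.Away f →ₐ[k] Localization.Away f ⊗[k] A :=
  IsLocalization.liftAlgHom (M := Submonoid.powers f) (S := Localization.Away f)
    (f := (Algebra.TensorProduct.map (IsScalarTower.toAlgHom k P (Localization.Away f)) (AlgHom.id k A)).comp
      (GLin.coactAlgHom k A P))
    (by rintro ⟨_, n, rfl⟩; rw [map_pow]; exact (isUnit_coact f hf).pow n)

theorem locCoact_algebraMap (p : P) : locCoact f hf (algebraMap P _ p) =
    Algebra.TensorProduct.map (IsScalarTower.toAlgHom k P (Localization.Away f)) (AlgHom.id k A)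
      (HopfRep.Comod.coact (k := k) (A := A) p) :=
  IsLocalization.lift_eq _ p

/-- The comodule structure on a localisation at an invariant element. -/
@[reducible] def locComod : HopfRep.Comod k A (Localization.Away f) where
  coact := (locCoact f hf).toLinearMap
  coassoc := by
    let e1 : Localization.Away f →ₐ[k] Localization.Away f ⊗[k] (A ⊗[k] A) :=
      (Algebra.TensorProduct.assoc k k k (Localization.Away f) A A).toAlgHom.comp
        ((Algebra.TensorProduct.map (locCoact f hf) (AlgHom.id k A)).comp (locCoact f hf))
    let e2 : Localization.Away f →ₐ[k] Localization.Away f ⊗[k] (A ⊗[k] A) :=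
      (Algebra.TensorProduct.map (AlgHom.id k _) (Bialgebra.comulAlgHom k A)).comp (locCoact f hf)
    have h : e1 = e2 := by
      refine IsLocalization.algHom_ext (Submonoid.powers f) (AlgHom.ext fun p => ?_)
      simp only [e1, e2, AlgHom.comp_apply, Algebra.algHom, IsScalarTower.coe_toAlgHom', locCoact_algebraMap]
      set ι := IsScalarTower.toAlgHom k P (Localization.Away f)
      have q1 : ∀ z : P ⊗[k] A, Algebra.TensorProduct.assoc k k k (Localization.Away f) A A
          (Algebra.TensorProduct.map (locCoact f hf) (AlgHom.id k A) (Algebra.TensorProduct.map ι (AlgHom.id k A) z)) =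
          ι.toLinearMap.rTensor (A ⊗[k] A) (TensorProduct.assoc k P A A
            ((HopfRep.Comod.coact (k := k) (A := A) (V := P)).rTensor A z)) := by
        intro z
        induction z with
        | zero => simp
        | add p q hp hq => simp only [map_add, hp, hq]
        | tmul p q =>
          simp only [Algebra.TensorProduct.map_tmul, AlgHom.coe_id, id_eq, LinearMap.rTensor_tmul]
          rw [show locCoact f hf (ι p) = _ from locCoact_algebraMap f hf p]
          induction HopfRep.Comod.coact (k := k) (A := A) p with
          | zero => simp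
          | add r s hr hs => simp only [TensorProduct.add_tmul, map_add, hr, hs]
          | tmul r s => simp [ι]
      have q2 : ∀ z : P ⊗[k] A, Algebra.TensorProduct.map (AlgHom.id k (Localization.Away f))
            (Bialgebra.comulAlgHom k A) (Algebra.TensorProduct.map ι (AlgHom.id k A) z) =
          ι.toLinearMap.rTensor (A ⊗[k] A) ((Coalgebra.comul (R := k)).lTensor P z) := by
        intro z
        induction z with
        | zero => simp
        | add p q hp hq => simp only [map_add, hp, hq]
        | tmul p q => simp
      refine (q1 _).trans (Eq.trans ?_ (q2 _).symm)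
      exact congrArg _ (LinearMap.congr_fun (HopfRep.Comod.coassoc (k := k) (A := A) (V := P)) p)
    exact LinearMap.ext fun z => DFunLike.congr_fun h z
  counit_comp := by
    let e1 : Localization.Away f →ₐ[k] Localization.Away f ⊗[k] k :=
      (Algebra.TensorProduct.map (AlgHom.id k _) (Bialgebra.counitAlgHom k A)).comp (locCoact f hf)
    have h : e1 = Algebra.TensorProduct.includeLeft := by
      refine IsLocalization.algHom_ext (Submonoid.powers f) (AlgHom.ext fun p => ?_)
      change Algebra.TensorProduct.map (AlgHom.id k _) (Bialgebra.counitAlgHom k A)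
        (locCoact f hf (algebraMap P _ p)) = algebraMap P (Localization.Away f) p ⊗ₜ[k] (1 : k)
      rw [locCoact_algebraMap]
      set ι := IsScalarTower.toAlgHom k P (Localization.Away f)
      have q : ∀ z : P ⊗[k] A, Algebra.TensorProduct.map (AlgHom.id k _) (Bialgebra.counitAlgHom k A)
          (Algebra.TensorProduct.map ι (AlgHom.id k A) z) =
          ι.toLinearMap.rTensor k ((Coalgebra.counit (R := k)).lTensor P z) := by
        intro z
        induction z with
        | zero => simp
        | add p q hp hq => simp only [map_add, hp, hq]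
        | tmul p q => simp
      rw [q]
      have hc := LinearMap.congr_fun (HopfRep.Comod.counit_comp (k := k) (A := A) (V := P)) p
      simp only [LinearMap.comp_apply] at hc
      rw [hc]
      simp [ι]
    exact LinearMap.ext fun z => DFunLike.congr_fun h z

theorem isCoactAlg_loc : letI := locComod f hf; GLin.IsCoactAlg k A (Localization.Away f) :=
  letI := locComod f hf
  { coact_one := map_one (locCoact f hf), coact_mul := fun a b => map_mul (locCoact f hf) a b }

end Loc

/-- A subalgebra generated by a stable set of generators is stable. -/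
theorem isSubcomod_adjoin [IsAlgClosed k] [CharZero k] [Algebra.FiniteType k A] (G : Set P)
    (hG : ∀ (g : A →ₐ[k] k), ∀ p ∈ G, transl k A g p ∈ Algebra.adjoin k G) :
    HopfRep.IsSubcomod (k := k) (A := A) (Subalgebra.toSubmodule (Algebra.adjoin k G)) := by
  refine isSubcomod_of_transl k A _ fun g p hp => ?_
  have hp' : p ∈ Algebra.adjoin k G := hp
  show transl k A g p ∈ Algebra.adjoin k G
  induction hp' using Algebra.adjoin_induction with
  | mem w hw => exact hG g w hw
  | algebraMap c => rw [AlgHom.commutes]; exact Subalgebra.algebraMap_mem _ c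
  | add a b ha hb h1 h2 => rw [map_add]; exact add_mem (h1 ha) (h2 hb)
  | mul a b ha hb h1 h2 => rw [map_mul]; exact mul_mem (h1 ha) (h2 hb)

/-- Elements along which the map is, locally, finite give a quasi-finite localisation. -/
theorem quasiFinite_away {S' M : Type u} [CommRing S'] [CommRing M] [Algebra S' M] [Algebra.FiniteType S' M]
    (f : M) {T : Type u} [CommRing T] [Algebra M T] [Algebra S' T] [IsScalarTower S' M T] [IsLocalization.Away f T]
    (D : Set M) (hD : ∀ d ∈ D, IsIntegral S' d ∧ ∀ c : M, ∃ n, IsIntegral S' (d ^ n * c))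
    (hf : f ∈ Ideal.span D) : Algebra.QuasiFinite S' (T) := by
  classical
  obtain ⟨t, htD, hft⟩ := Submodule.mem_span_finite_of_mem_span hf
  obtain ⟨X, hX⟩ := Algebra.FiniteType.out (R := S') (A := M)
  choose! n hn using fun d (hd : d ∈ D) => (hD d hd).2
  let G : Finset M := t ∪ (t ×ˢ X).image fun z => z.1 ^ n z.1 z.2 * z.2
  let C := Algebra.adjoin S' (G : Set M)
  have hCfg : Module.Finite S' C := ⟨(Submodule.fg_top _).2 (fg_adjoin_of_finite G.finite_toSet fun a ha => by
    simp only [G, Finset.coe_union, Finset.coe_image, Set.mem_union, Set.mem_image, Finset.mem_coe,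
      Finset.mem_product] at ha
    rcases ha with ha | ⟨z, ⟨hz, -⟩, rfl⟩
    exacts [(hD a (htD ha)).1, hn _ (htD hz) _])⟩
  have hsat : ∀ d ∈ t, ∀ c : M, ∃ i, d ^ i * c ∈ C := by
    intro d hd c
    have hdC : d ∈ C := Algebra.subset_adjoin (Finset.mem_union_left _ hd)
    have hc : c ∈ Algebra.adjoin S' (X : Set M) := hX ▸ Algebra.mem_top
    induction hc using Algebra.adjoin_induction with
    | mem b hb => exact ⟨_, Algebra.subset_adjoin (Finset.mem_union_right _
        (Finset.mem_image.2 ⟨(d, b), Finset.mem_product.2 ⟨hd, hb⟩, rfl⟩))⟩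
    | algebraMap s => exact ⟨0, by simpa using C.algebraMap_mem s⟩
    | add a b _ _ ha hb =>
      obtain ⟨i, hi⟩ := ha
      obtain ⟨j, hj⟩ := hb
      refine ⟨i + j, ?_⟩
      rw [show d ^ (i + j) * (a + b) = d ^ j * (d ^ i * a) + d ^ i * (d ^ j * b) by ring]
      exact add_mem (mul_mem (pow_mem hdC j) hi) (mul_mem (pow_mem hdC i) hj)
    | mul a b _ _ ha hb =>
      obtain ⟨i, hi⟩ := ha
      obtain ⟨j, hj⟩ := hb
      refine ⟨i + j, ?_⟩
      rw [show d ^ (i + j) * (a * b) = (d ^ i * a) * (d ^ j * b) by ring]
      exact mul_mem hi hj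
  haveI : Algebra.FiniteType M T := IsLocalization.finiteType_of_monoid_fg (Submonoid.powers f) T
  haveI : Algebra.FiniteType S' T := Algebra.FiniteType.trans (S := M) inferInstance inferInstance
  rw [Algebra.QuasiFinite.iff_finite_primesOver]
  intro q hq
  let cM : Ideal (T) → Ideal M := fun Q => Q.comap (algebraMap M (T))
  let cC : Ideal (T) → Ideal C := fun Q => (cM Q).comap C.val
  refine Set.Finite.of_finite_image (f := cC) ?_ ?_
  · haveI := hCfg
    refine (Algebra.QuasiFinite.finite_primesOver (R := S') (S := C) q).subset ?_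
    rintro _ ⟨Q, ⟨hQ, hQq⟩, rfl⟩
    refine ⟨Ideal.IsPrime.comap _, ⟨?_⟩⟩
    rw [hQq.over]
    ext s
    simp only [cC, cM, Ideal.under, Ideal.mem_comap, IsScalarTower.algebraMap_apply S' M T]
    rfl
  · have key : ∀ Q Q' : Ideal (T), Q.IsPrime → Q'.IsPrime → cC Q = cC Q' → cM Q ≤ cM Q' := by
      intro Q Q' hQ hQ' e c hc
      haveI := hQ
      haveI := hQ'
      have hfQ : f ∉ cM Q := fun h => hQ.ne_top (Ideal.eq_top_of_isUnit_mem _ h
        (IsLocalization.Away.algebraMap_isUnit f))
      obtain ⟨d, hd, hdQ⟩ : ∃ d ∈ t, d ∉ cM Q := by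
        by_contra hall
        push Not at hall
        exact hfQ ((Submodule.span_le.2 fun d hd => hall d hd) hft)
      have hdC : d ∈ C := Algebra.subset_adjoin (Finset.mem_union_left _ hd)
      have hdQ' : d ∉ cM Q' := fun h => hdQ (show (⟨d, hdC⟩ : C) ∈ cC Q from e.symm ▸ h)
      obtain ⟨i, hi⟩ := hsat d hd c
      have h1 : (⟨_, hi⟩ : C) ∈ cC Q' := e ▸ (show d ^ i * c ∈ cM Q from Ideal.mul_mem_left _ _ hc)
      have hp : (cM Q').IsPrime := Ideal.IsPrime.comap _
      exact (hp.mem_or_mem (show d ^ i * c ∈ cM Q' from h1)).resolve_left fun h => hdQ' (hp.mem_of_pow_mem i h)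
    intro Q hQ Q' hQ' e
    have h1 : cM Q = cM Q' := le_antisymm (key Q Q' hQ.1 hQ'.1 e) (key Q' Q hQ'.1 hQ.1 e.symm)
    have h2 := congrArg (Ideal.map (algebraMap M (T))) h1
    rwa [IsLocalization.map_comap (Submonoid.powers f), IsLocalization.map_comap (Submonoid.powers f)] at h2

end Groth.Agent.EqThick
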